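import Mathlib.LinearAlgebra.Matrix.SpecialLinearGroup
import Mathlib.LinearAlgebra.Matrix.Basis
import Mathlib.LinearAlgebra.Matrix.ToLin
import Mathlib.LinearAlgebra.Matrix.Rank
import Mathlib.LinearAlgebra.FiniteDimensional.Lemmas
import Mathlib.LinearAlgebra.Basis.Prod
import Mathlib.LinearAlgebra.Projection
import Mathlib.LinearAlgebra.Dimension.DivisionRing
import Mathlib.FieldTheory.Finiteness
import Mathlib.Tactic

/-!
# A plane disjoint from its image, for `8 × 8` matrices (helper10)

`a : Matrix (Fin 2 ⊕ Fin 6) _ K` with `rank (a - μ) ≥ 2` for all `μ ≠ 1`, `a ≠ 1` (any finite field):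
`a` has a conjugate with upper left `2 × 2` block `1` whose Schur complement is not `1`.
-/

set_option autoImplicit false

namespace Cfsg.Agent.H10.TW

open Module Matrix

variable {K : Type*} [Field K]

section lin

variable {V : Type*} [AddCommGroup V] [Module K V] [FiniteDimensional K V]

theorem finrank_comap_le (N : V →ₗ[K] V) (U : Submodule K V) :
    finrank K ↥(U.comap N) ≤ finrank K U + finrank K (LinearMap.ker N) := by
  have h1 := (N.domRestrict (U.comap N)).finrank_range_add_finrank_ker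
  have h2 : finrank K ↥(LinearMap.range (N.domRestrict (U.comap N))) ≤ finrank K U := by
    refine Submodule.finrank_mono ?_
    rintro _ ⟨w, rfl⟩
    exact w.2
  have h3 : finrank K ↥(LinearMap.ker (N.domRestrict (U.comap N))) ≤ finrank K (LinearMap.ker N) := by
    rw [← Submodule.finrank_map_subtype_eq]
    refine Submodule.finrank_mono ?_
    rintro _ ⟨w, hw, rfl⟩
    exact hw
  omega

omit [FiniteDimensional K V] in
/-- a union bound for subspaces -/
theorem exists_notMem_of_sum [Finite V] {ι : Type*} (s : Finset ι) (B : ι → Submodule K V)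
    (h : ∑ i ∈ s, Nat.card (B i) < Nat.card V) : ∃ v : V, ∀ i ∈ s, v ∉ B i := by
  classical
  let _ : Fintype V := Fintype.ofFinite V
  by_contra hc
  push Not at hc
  have h1 : (Finset.univ : Finset V) ⊆ s.biUnion fun i => (Finset.univ.filter fun v => v ∈ B i) := by
    intro v _
    obtain ⟨i, hi, hv⟩ := hc v
    rw [Finset.mem_biUnion]
    exact ⟨i, hi, by simp [hv]⟩
  have h2 := (Finset.card_le_card h1).trans Finset.card_biUnion_le
  rw [Finset.card_univ] at h2
  have h3 : ∀ i, (Finset.univ.filter fun v => v ∈ B i).card = Nat.card (B i) := by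
    intro i
    rw [Nat.card_eq_fintype_card, Fintype.card_subtype]
  simp only [h3] at h2
  rw [Nat.card_eq_fintype_card] at h
  omega

theorem card_sub [Finite K] (B : Submodule K V) {n : ℕ} (h : finrank K B ≤ n) :
    Nat.card B ≤ Nat.card K ^ n := by
  rw [Module.natCard_eq_pow_finrank (K := K)]
  exact Nat.pow_le_pow_right Nat.card_pos h

/-- **the plane** -/
theorem exists_plane [Finite K] (hd : finrank K V = 8) (N : V →ₗ[K] V) (R : Submodule K V)
    (hR : finrank K R ≤ 2)
    (hr : ∀ ν : K, ν ≠ 0 → 2 ≤ finrank K (LinearMap.range (N - ν • LinearMap.id))) :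
    ∃ W : Submodule K V, finrank K W = 2 ∧ Disjoint W (W.map N) ∧ ¬ W ≤ R := by
  classical
  have _ : Finite V := Module.finite_of_finite K
  let _ : Fintype K := Fintype.ofFinite K
  obtain ⟨q, hq⟩ : ∃ q, q = Nat.card K := ⟨_, rfl⟩
  have hq2 : 2 ≤ q := by
    rw [hq]
    exact Finite.one_lt_card
  have hqf : Fintype.card K = q := by rw [hq, Nat.card_eq_fintype_card]
  have hV : Nat.card V = q ^ 8 := by rw [Module.natCard_eq_pow_finrank (K := K), hd, hq]
  have hrn := N.finrank_range_add_finrank_ker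
  rw [hd] at hrn
  by_cases h5 : 5 ≤ finrank K (LinearMap.range N)
  swap
  · -- the kernel has dimension at least four
    push Not at h5
    obtain ⟨k, hk⟩ : ∃ k, k = LinearMap.ker N := ⟨_, rfl⟩
    rw [← hk] at hrn
    have hk4 : 4 ≤ finrank K k := by omega
    obtain ⟨w1, hw1k, hw1⟩ : ∃ w1 ∈ k, w1 ∉ R := by
      by_contra hcon
      push Not at hcon
      have h1 := Submodule.finrank_mono (show k ≤ R from hcon)
      omega
    have hw10 : w1 ≠ 0 := by
      rintro rfl
      exact hw1 (Submodule.zero_mem _)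
    obtain ⟨w2, hw2k, hw2⟩ : ∃ w2 ∈ k, w2 ∉ Submodule.span K {w1} := by
      by_contra hcon
      push Not at hcon
      have h1 := Submodule.finrank_mono (show k ≤ Submodule.span K {w1} from hcon)
      have h2 := finrank_span_singleton (K := K) hw10
      omega
    have hli : LinearIndependent K ![w1, w2] := by
      rw [LinearIndependent.pair_iff]
      intro s t hst
      by_cases ht : t = 0
      · subst ht
        rw [zero_smul, add_zero] at hst
        exact ⟨(smul_eq_zero.1 hst).resolve_right hw10, rfl⟩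
      · exfalso
        refine hw2 ?_
        rw [Submodule.mem_span_singleton]
        refine ⟨-(t⁻¹ * s), ?_⟩
        have h1 : t • w2 = -(s • w1) := (neg_eq_of_add_eq_zero_right hst).symm
        have h2 : w2 = t⁻¹ • (t • w2) := by rw [smul_smul, inv_mul_cancel₀ ht, one_smul]
        rw [h2, h1, neg_smul, smul_neg, smul_smul]
    have hsp := finrank_span_eq_card hli
    rw [Fintype.card_fin, Matrix.range_cons, Matrix.range_cons, Matrix.range_empty, Set.union_empty,
      Set.singleton_union] at hsp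
    have hle : Submodule.span K {w1, w2} ≤ k := by
      rw [Submodule.span_le]
      rintro v (rfl | rfl)
      · exact hw1k
      · exact hw2k
    refine ⟨Submodule.span K {w1, w2}, hsp, ?_, ?_⟩
    · have h2 : (Submodule.span K {w1, w2}).map N = ⊥ := by
        rw [hk] at hle
        exact LinearMap.le_ker_iff_map.1 hle
      rw [h2]
      exact disjoint_bot_right
    · intro hcon
      exact hw1 (hcon (Submodule.subset_span (by simp)))
  · -- large rank
    have hk3 : finrank K (LinearMap.ker N) ≤ 3 := by omega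
    have hkν : ∀ ν : K, ν ≠ 0 → finrank K (LinearMap.ker (N - ν • LinearMap.id)) ≤ 6 := by
      intro ν hν
      have h1 := (N - ν • LinearMap.id).finrank_range_add_finrank_ker
      have h2 := hr ν hν
      rw [hd] at h1
      omega
    have hzero : N - (0 : K) • LinearMap.id = N := by rw [zero_smul, sub_zero]
    -- the first vector
    obtain ⟨B1, hB1, hB1'⟩ : ∃ B1 : K → Submodule K V, (∀ ν, finrank K (B1 ν) ≤ 2) ∧
        ∀ ν, finrank K (LinearMap.range (N - ν • LinearMap.id)) = 2 →
          B1 ν = LinearMap.range (N - ν • LinearMap.id) := by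
      have h : ∀ ν : K, ∃ B : Submodule K V, finrank K B ≤ 2 ∧
          (finrank K (LinearMap.range (N - ν • LinearMap.id)) = 2 →
            B = LinearMap.range (N - ν • LinearMap.id)) := by
        intro ν
        by_cases h : finrank K (LinearMap.range (N - ν • LinearMap.id)) = 2
        · exact ⟨_, h.le, fun _ => rfl⟩
        · refine ⟨⊥, ?_, fun h' => absurd h' h⟩
          rw [finrank_bot]
          omega
      choose B hB hB' using h
      exact ⟨B, hB, hB'⟩
    obtain ⟨w1, hw1⟩ : ∃ w1 : V, ∀ i ∈ (Finset.univ : Finset (K ⊕ (K ⊕ Unit))),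
        w1 ∉ (Sum.elim (fun ν => LinearMap.ker (N - ν • LinearMap.id))
          (Sum.elim B1 fun _ => R) : K ⊕ (K ⊕ Unit) → Submodule K V) i := by
      refine exists_notMem_of_sum _ _ ?_
      rw [Fintype.sum_sum_type, Fintype.sum_sum_type, hV]
      simp only [Sum.elim_inl, Sum.elim_inr, Finset.univ_unique (α := Unit), Finset.sum_singleton]
      have h1 : ∑ ν : K, Nat.card (LinearMap.ker (N - ν • LinearMap.id)) ≤ q ^ 3 + (q - 1) * q ^ 6 := by
        rw [← Finset.add_sum_erase _ _ (Finset.mem_univ (0 : K))]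
        refine Nat.add_le_add ?_ ?_
        · rw [hzero, hq]
          exact card_sub _ hk3
        · have h2 : ∀ ν ∈ (Finset.univ.erase (0 : K)),
              Nat.card (LinearMap.ker (N - ν • LinearMap.id)) ≤ q ^ 6 := by
            intro ν hν
            rw [hq]
            exact card_sub _ (hkν ν (Finset.ne_of_mem_erase hν))
          refine (Finset.sum_le_card_nsmul _ _ _ h2).trans ?_
          rw [Finset.card_erase_of_mem (Finset.mem_univ _), Finset.card_univ, smul_eq_mul, hqf]
      have h2 : ∑ ν : K, Nat.card (B1 ν) ≤ q * q ^ 2 := by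
        have h3 : ∀ ν ∈ (Finset.univ : Finset K), Nat.card (B1 ν) ≤ q ^ 2 := by
          intro ν _
          rw [hq]
          exact card_sub _ (hB1 ν)
        refine (Finset.sum_le_card_nsmul _ _ _ h3).trans ?_
        rw [Finset.card_univ, smul_eq_mul, hqf]
      have h3 : Nat.card R ≤ q ^ 2 := by
        rw [hq]
        exact card_sub _ hR
      refine (Nat.add_le_add h1 (Nat.add_le_add h2 h3)).trans_lt ?_
      clear h1 h2 h3 hqf hV hq
      obtain ⟨r, rfl⟩ : ∃ r, q = r + 2 := ⟨q - 2, by omega⟩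
      have h4 : r + 2 - 1 = r + 1 := rfl
      rw [h4]
      have e1 : (r + 2) ^ 8 = (r + 1) * (r + 2) ^ 7 + (r + 2) ^ 7 := by ring
      have e2 : (r + 2) ^ 7 = (r + 1) * (r + 2) ^ 6 + (r + 2) ^ 6 := by ring
      have e3 : (r + 2) ^ 6 = (r + 2) ^ 3 * (r + 2) ^ 3 := by ring
      have e4 : 8 ≤ (r + 2) ^ 3 := by
        calc 8 = 2 ^ 3 := by norm_num
          _ ≤ (r + 2) ^ 3 := Nat.pow_le_pow_left (by omega) 3
      have e5 : (r + 2) ^ 2 ≤ (r + 2) ^ 3 := Nat.pow_le_pow_right (by omega) (by omega)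
      have e6 : (r + 2) * (r + 2) ^ 2 = (r + 2) ^ 3 := by ring
      have e7 : 0 < (r + 1) * (r + 2) ^ 7 := by positivity
      have e8 : 8 * (r + 2) ^ 3 ≤ (r + 2) ^ 3 * (r + 2) ^ 3 := Nat.mul_le_mul_right _ e4
      omega
    have hw1k : ∀ ν : K, N w1 ≠ ν • w1 := by
      intro ν h
      refine hw1 (Sum.inl ν) (Finset.mem_univ _) ?_
      simp [h]
    have hw1r : ∀ ν : K, finrank K (LinearMap.range (N - ν • LinearMap.id)) = 2 →
        w1 ∉ LinearMap.range (N - ν • LinearMap.id) := by
      intro ν h h'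
      refine hw1 (Sum.inr (Sum.inl ν)) (Finset.mem_univ _) ?_
      simp only [Sum.elim_inr, Sum.elim_inl]
      rw [hB1' ν h]
      exact h'
    have hw1R : w1 ∉ R := hw1 (Sum.inr (Sum.inr ())) (Finset.mem_univ _)
    obtain ⟨U, hU⟩ : ∃ U, U = Submodule.span K {w1, N w1} := ⟨_, rfl⟩
    have hUd : finrank K U ≤ 2 := by
      have h1 := finrank_span_finset_le_card (R := K) ({w1, N w1} : Finset V)
      rw [Set.finrank, Finset.coe_insert, Finset.coe_singleton] at h1
      rw [hU]
      exact h1.trans Finset.card_le_two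
    have hwU : w1 ∈ U := by
      rw [hU]
      exact Submodule.subset_span (by simp)
    have hNU : N w1 ∈ U := by
      rw [hU]
      exact Submodule.subset_span (by simp)
    -- the second vector
    have hB7 : ∀ ν : K, ν ≠ 0 → finrank K (U.comap (N - ν • LinearMap.id)) ≤ 7 := by
      intro ν hν
      by_contra hcon
      have h1 : U.comap (N - ν • LinearMap.id) = ⊤ := by
        refine Submodule.eq_top_of_finrank_eq ?_
        have := Submodule.finrank_le (U.comap (N - ν • LinearMap.id))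
        omega
      have h2 : LinearMap.range (N - ν • LinearMap.id) ≤ U := by
        rintro _ ⟨v, rfl⟩
        have : v ∈ U.comap (N - ν • LinearMap.id) := by
          rw [h1]
          exact Submodule.mem_top
        exact this
      have h3 := Submodule.finrank_mono h2
      have h4 := hr ν hν
      have h5 : finrank K (LinearMap.range (N - ν • LinearMap.id)) = 2 := by omega
      refine hw1r ν h5 ?_
      rw [Submodule.eq_of_le_of_finrank_le h2 (by omega)]
      exact hwU
    obtain ⟨w2, hw2⟩ : ∃ w2 : V, ∀ i ∈ (Finset.univ : Finset (K ⊕ Unit)),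
        w2 ∉ (Sum.elim (fun ν => U.comap (N - ν • LinearMap.id)) (fun _ => U) :
          K ⊕ Unit → Submodule K V) i := by
      refine exists_notMem_of_sum _ _ ?_
      rw [Fintype.sum_sum_type, hV]
      simp only [Sum.elim_inl, Sum.elim_inr, Finset.univ_unique (α := Unit), Finset.sum_singleton]
      have h1 : ∑ ν : K, Nat.card (U.comap (N - ν • LinearMap.id)) ≤ q ^ 5 + (q - 1) * q ^ 7 := by
        rw [← Finset.add_sum_erase _ _ (Finset.mem_univ (0 : K))]
        refine Nat.add_le_add ?_ ?_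
        · rw [hzero, hq]
          refine card_sub _ ?_
          have h4 : finrank K (U.comap N) ≤ finrank K U + finrank K (LinearMap.ker N) :=
            finrank_comap_le N U
          omega
        · have h2 : ∀ ν ∈ (Finset.univ.erase (0 : K)),
              Nat.card (U.comap (N - ν • LinearMap.id)) ≤ q ^ 7 := by
            intro ν hν
            rw [hq]
            exact card_sub _ (hB7 ν (Finset.ne_of_mem_erase hν))
          refine (Finset.sum_le_card_nsmul _ _ _ h2).trans ?_
          rw [Finset.card_erase_of_mem (Finset.mem_univ _), Finset.card_univ, smul_eq_mul, hqf]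
      have h2 : Nat.card U ≤ q ^ 2 := by
        rw [hq]
        exact card_sub _ hUd
      refine (Nat.add_le_add h1 h2).trans_lt ?_
      clear h1 h2 hqf hV hq
      obtain ⟨r, rfl⟩ : ∃ r, q = r + 2 := ⟨q - 2, by omega⟩
      have h4 : r + 2 - 1 = r + 1 := rfl
      rw [h4]
      have e1 : (r + 2) ^ 8 = (r + 1) * (r + 2) ^ 7 + (r + 2) ^ 7 := by ring
      have e2 : (r + 2) ^ 7 = (r + 2) ^ 2 * (r + 2) ^ 5 := by ring
      have e3 : 4 ≤ (r + 2) ^ 2 := by
        calc 4 = 2 ^ 2 := by norm_num
          _ ≤ (r + 2) ^ 2 := Nat.pow_le_pow_left (by omega) 2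
      have e4 : (r + 2) ^ 2 ≤ (r + 2) ^ 5 := Nat.pow_le_pow_right (by omega) (by omega)
      have e5 : 4 * (r + 2) ^ 5 ≤ (r + 2) ^ 2 * (r + 2) ^ 5 := Nat.mul_le_mul_right _ e3
      have e6 : 0 < (r + 2) ^ 5 := by positivity
      omega
    have hw2U : w2 ∉ U := hw2 (Sum.inr ()) (Finset.mem_univ _)
    have hw2N : ∀ ν : K, N w2 - ν • w2 ∉ U := by
      intro ν h
      refine hw2 (Sum.inl ν) (Finset.mem_univ _) ?_
      simp only [Sum.elim_inl, Submodule.mem_comap, LinearMap.sub_apply, LinearMap.smul_apply,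
        LinearMap.id_coe, id_eq]
      exact h
    have hw10 : w1 ≠ 0 := by
      rintro rfl
      exact hw1k 0 (by simp)
    have hli : LinearIndependent K ![w1, w2] := by
      rw [LinearIndependent.pair_iff]
      intro s t hst
      by_cases ht : t = 0
      · subst ht
        rw [zero_smul, add_zero] at hst
        exact ⟨(smul_eq_zero.1 hst).resolve_right hw10, rfl⟩
      · exfalso
        refine hw2U ?_
        have h1 : t • w2 = -(s • w1) := (neg_eq_of_add_eq_zero_right hst).symm
        have h2 : w2 = t⁻¹ • (t • w2) := by rw [smul_smul, inv_mul_cancel₀ ht, one_smul]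
        rw [h2, h1]
        exact U.smul_mem _ (U.neg_mem (U.smul_mem _ hwU))
    have hsp := finrank_span_eq_card hli
    rw [Fintype.card_fin, Matrix.range_cons, Matrix.range_cons, Matrix.range_empty, Set.union_empty,
      Set.singleton_union] at hsp
    refine ⟨Submodule.span K {w1, w2}, hsp, ?_, fun hcon =>
      hw1R (hcon (Submodule.subset_span (by simp)))⟩
    rw [Submodule.disjoint_def]
    intro w hw hw'
    rw [Submodule.map_span, Set.image_pair, Submodule.mem_span_pair] at hw'
    rw [Submodule.mem_span_pair] at hw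
    obtain ⟨a, b, rfl⟩ := hw
    obtain ⟨c, d, h⟩ := hw'
    by_cases hd0 : d = 0
    · subst hd0
      rw [zero_smul, add_zero] at h
      by_cases hb0 : b = 0
      · subst hb0
        rw [zero_smul, add_zero] at h ⊢
        by_cases hc0 : c = 0
        · subst hc0
          rw [zero_smul] at h
          exact h.symm
        · exfalso
          refine hw1k (c⁻¹ * a) ?_
          rw [mul_smul, ← h, smul_smul, inv_mul_cancel₀ hc0, one_smul]
      · exfalso
        refine hw2U ?_
        have h1 : w2 = b⁻¹ • (c • N w1 - a • w1) := by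
          rw [h, add_sub_cancel_left, smul_smul, inv_mul_cancel₀ hb0, one_smul]
        rw [h1]
        exact U.smul_mem _ (U.sub_mem (U.smul_mem _ hNU) (U.smul_mem _ hwU))
    · exfalso
      refine hw2N (d⁻¹ * b) ?_
      have h1 : N w2 - (d⁻¹ * b) • w2 = d⁻¹ • (a • w1 - c • N w1) := by
        have h2 : a • w1 - c • N w1 = d • N w2 - b • w2 := by
          rw [sub_eq_sub_iff_add_eq_add, ← h]
          abel
        rw [h2, smul_sub, smul_smul, smul_smul, inv_mul_cancel₀ hd0, one_smul]
      rw [h1]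
      exact U.smul_mem _ (U.sub_mem (U.smul_mem _ hwU) (U.smul_mem _ hNU))

/-- the complement -/
theorem exists_compl [Finite K] (hd : finrank K V = 8) (f : V →ₗ[K] V)
    (hf : Function.Injective f) (κ : K)
    (hκ : 2 ≤ finrank K (LinearMap.range (f - κ • LinearMap.id)))
    (W : Submodule K V) (hW : finrank K W = 2) (hWN : Disjoint W (W.map (f - LinearMap.id)))
    (hWR : W ≠ LinearMap.range (f - κ • LinearMap.id)) :
    ∃ U : Submodule K V, IsCompl W U ∧ W.map (f - LinearMap.id) ≤ U ∧
      ∃ u ∈ U, f u - κ • u ∉ W.map f := by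
  classical
  obtain ⟨P, hP⟩ : ∃ P, P = (W.map f).comap (f - κ • LinearMap.id) := ⟨_, rfl⟩
  have hP1 : P ≠ ⊤ := by
    intro h
    have h2 : LinearMap.range (f - κ • LinearMap.id) ≤ W.map f := by
      rintro _ ⟨v, rfl⟩
      have : v ∈ P := by
        rw [h]
        exact Submodule.mem_top
      rw [hP] at this
      exact this
    have h3 : finrank K (W.map f) = 2 := by
      rw [← (Submodule.equivMapOfInjective f hf W).finrank_eq, hW]
    have h4 : LinearMap.range (f - κ • LinearMap.id) = W.map f :=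
      Submodule.eq_of_le_of_finrank_le h2 (by omega)
    refine hWR ?_
    have h5 : (LinearMap.range (f - κ • LinearMap.id)).map f ≤
        LinearMap.range (f - κ • LinearMap.id) := by
      rintro _ ⟨_, ⟨v, rfl⟩, rfl⟩
      exact ⟨f v, by simp⟩
    have h6 : (LinearMap.range (f - κ • LinearMap.id)).map f =
        LinearMap.range (f - κ • LinearMap.id) := by
      refine Submodule.eq_of_le_of_finrank_le h5 ?_
      rw [← (Submodule.equivMapOfInjective f hf _).finrank_eq]
    have h7 : W.map f = (LinearMap.range (f - κ • LinearMap.id)).map f := by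
      rw [h6, h4]
    exact Submodule.map_injective_of_injective hf h7
  obtain ⟨Q, hQ⟩ : ∃ Q, Q = W ⊔ W.map (f - LinearMap.id) := ⟨_, rfl⟩
  have hQ1 : Q ≠ ⊤ := by
    intro h
    have h1 := Submodule.finrank_add_le_finrank_add_finrank W (W.map (f - LinearMap.id))
    have h2 := Submodule.finrank_map_le (f - LinearMap.id) W
    rw [← hQ, h, finrank_top] at h1
    omega
  obtain ⟨u, huP, huQ⟩ : ∃ u, u ∉ P ∧ u ∉ Q := by
    obtain ⟨a, ha⟩ : ∃ a, a ∉ P := by
      by_contra hcon
      push Not at hcon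
      exact hP1 (Submodule.eq_top_iff'.2 hcon)
    obtain ⟨b, hb⟩ : ∃ b, b ∉ Q := by
      by_contra hcon
      push Not at hcon
      exact hQ1 (Submodule.eq_top_iff'.2 hcon)
    by_cases haQ : a ∈ Q
    · by_cases hbP : b ∈ P
      · refine ⟨a + b, fun h => ha ?_, fun h => hb ?_⟩
        · have := P.sub_mem h hbP
          rwa [add_sub_cancel_right] at this
        · have := Q.sub_mem h haQ
          rwa [add_sub_cancel_left] at this
      · exact ⟨b, hbP, hb⟩
    · exact ⟨a, ha, haQ⟩
  have hdis : Disjoint W (W.map (f - LinearMap.id) ⊔ Submodule.span K {u}) := by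
    rw [Submodule.disjoint_def]
    intro w hw hw'
    obtain ⟨n, hn, y, hy, hny⟩ := Submodule.mem_sup.1 hw'
    obtain ⟨c, rfl⟩ := Submodule.mem_span_singleton.1 hy
    by_cases hc : c = 0
    · subst hc
      rw [zero_smul, add_zero] at hny
      subst hny
      exact Submodule.disjoint_def.1 hWN _ hw hn
    · exfalso
      refine huQ ?_
      have h1 : u = c⁻¹ • (w - n) := by
        rw [← hny, add_sub_cancel_left, smul_smul, inv_mul_cancel₀ hc, one_smul]
      rw [h1, hQ]
      exact Submodule.smul_mem _ _ (Submodule.sub_mem _ (Submodule.mem_sup_left hw)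
        (Submodule.mem_sup_right hn))
  obtain ⟨U, hle, hc⟩ := hdis.symm.exists_isCompl
  refine ⟨U, hc.symm, le_sup_left.trans hle, u,
    hle (Submodule.mem_sup_right (Submodule.mem_span_singleton_self u)), ?_⟩
  intro h
  refine huP ?_
  rw [hP, Submodule.mem_comap]
  simpa using h

end lin

/-- block form, `S` in `GL` -/
theorem exists_block [Finite K] (N : Matrix (Fin 2 ⊕ Fin 6) (Fin 2 ⊕ Fin 6) K) (hdet : N.det ≠ 0)
    (hr : ∀ μ : K, 2 ≤ (N - Matrix.scalar _ μ).rank) (κ : K) :
    ∃ (S T : Matrix (Fin 2 ⊕ Fin 6) (Fin 2 ⊕ Fin 6) K) (X : Matrix (Fin 6) (Fin 2) K)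
      (Y : Matrix (Fin 2) (Fin 6) K) (C : Matrix (Fin 6) (Fin 6) K), S * T = 1 ∧
      S * N * T = fromBlocks 1 0 X 1 * fromBlocks 1 0 0 C * fromBlocks 1 Y 0 1 ∧ C ≠ κ • 1 := by
  classical
  obtain ⟨f, hf⟩ : ∃ f, f = Matrix.toLin' N := ⟨_, rfl⟩
  have hinj : Function.Injective f := by
    rw [hf]
    intro v w hvw
    rw [Matrix.toLin'_apply, Matrix.toLin'_apply] at hvw
    have h1 : N⁻¹ * N = 1 := Matrix.nonsing_inv_mul _ (isUnit_iff_ne_zero.2 hdet)
    have h2 : N⁻¹ *ᵥ (N *ᵥ v) = N⁻¹ *ᵥ (N *ᵥ w) := by rw [hvw]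
    rwa [Matrix.mulVec_mulVec, Matrix.mulVec_mulVec, h1, Matrix.one_mulVec, Matrix.one_mulVec] at h2
  have hd : finrank K (Fin 2 ⊕ Fin 6 → K) = 8 := by
    rw [finrank_fintype_fun_eq_card]
    simp
  have hrf : ∀ μ : K, 2 ≤ finrank K (LinearMap.range (f - μ • LinearMap.id)) := by
    intro μ
    have h1 : f - μ • LinearMap.id = (N - Matrix.scalar _ μ).mulVecLin := by
      refine LinearMap.ext fun v => ?_
      rw [hf, LinearMap.sub_apply, Matrix.toLin'_apply, LinearMap.smul_apply, LinearMap.id_coe, id_eq,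
        Matrix.mulVecLin_apply, Matrix.sub_mulVec, Matrix.scalar_apply, Matrix.diagonal_const_mulVec]
    rw [h1]
    exact hr μ
  obtain ⟨R, hR, hR'⟩ : ∃ R : Submodule K (Fin 2 ⊕ Fin 6 → K), finrank K R ≤ 2 ∧
      (finrank K (LinearMap.range (f - κ • LinearMap.id)) = 2 →
        R = LinearMap.range (f - κ • LinearMap.id)) := by
    by_cases h : finrank K (LinearMap.range (f - κ • LinearMap.id)) = 2
    · exact ⟨_, h.le, fun _ => rfl⟩
    · refine ⟨⊥, ?_, fun h' => absurd h' h⟩
      rw [finrank_bot]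
      omega
  obtain ⟨W, hW, hWN, hWR⟩ := exists_plane hd (f - LinearMap.id) R hR (by
    intro ν _
    have h1 : f - LinearMap.id - ν • LinearMap.id =
        f - (1 + ν) • (LinearMap.id : (Fin 2 ⊕ Fin 6 → K) →ₗ[K] (Fin 2 ⊕ Fin 6 → K)) := by
      rw [add_smul, one_smul, sub_sub]
    rw [h1]
    exact hrf _)
  have hWR' : W ≠ LinearMap.range (f - κ • LinearMap.id) := by
    intro h
    have h1 : finrank K (LinearMap.range (f - κ • LinearMap.id)) = 2 := by rw [← h, hW]
    exact hWR (by rw [hR' h1, h])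
  obtain ⟨U, hc, hle, u, huU, hu⟩ := exists_compl hd f hinj κ (hrf κ) W hW hWN hWR'
  have h6 : finrank K U = 6 := by
    have h1 := Submodule.finrank_add_eq_of_isCompl hc
    rw [hW, hd] at h1
    omega
  let b : Basis (Fin 2 ⊕ Fin 6) K (Fin 2 ⊕ Fin 6 → K) :=
    ((finBasisOfFinrankEq K W hW).prod (finBasisOfFinrankEq K U h6)).map (W.prodEquivOfIsCompl U hc)
  have hb1 : ∀ j, b (Sum.inl j) ∈ W := fun j => by
    simp [b]
  have hb2 : ∀ w ∈ U, ∀ i, b.repr w (Sum.inl i) = 0 := fun w hw i => by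
    have h2 : (W.prodEquivOfIsCompl U hc).symm w = ((0 : W), (⟨w, hw⟩ : U)) := by
      rw [LinearEquiv.symm_apply_eq]
      simp
    simp [b, h2]
  obtain ⟨M, hM⟩ : ∃ M, M = LinearMap.toMatrix b b f := ⟨_, rfl⟩
  have h3 : b.toMatrix (Pi.basisFun K _) * N * (Pi.basisFun K _).toMatrix b = M := by
    rw [hM, ← basis_toMatrix_mul_linearMap_toMatrix_mul_basis_toMatrix b (Pi.basisFun K _) b
      (Pi.basisFun K _), LinearMap.toMatrix_eq_toMatrix', hf, LinearMap.toMatrix'_toLin']
  have h11 : M.toBlocks₁₁ = 1 := by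
    ext i j
    rw [Matrix.toBlocks₁₁, Matrix.of_apply, hM, LinearMap.toMatrix_apply]
    have h4 : f (b (Sum.inl j)) =
        ((f - LinearMap.id : (Fin 2 ⊕ Fin 6 → K) →ₗ[K] (Fin 2 ⊕ Fin 6 → K)) (b (Sum.inl j))) +
          b (Sum.inl j) := by simp
    rw [h4, map_add, Finsupp.add_apply, hb2 _ (hle ⟨_, hb1 j, rfl⟩) i, zero_add, b.repr_self]
    by_cases hij : i = j
    · subst hij
      simp
    · rw [Matrix.one_apply_ne hij, Finsupp.single_apply, if_neg]
      intro h5
      exact hij (Sum.inl_injective h5).symm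
  have hMf : M = fromBlocks 1 0 M.toBlocks₂₁ 1 *
      fromBlocks 1 0 0 (M.toBlocks₂₂ - M.toBlocks₂₁ * M.toBlocks₁₂) *
        fromBlocks 1 M.toBlocks₁₂ 0 1 := by
    rw [Matrix.fromBlocks_multiply, Matrix.fromBlocks_multiply]
    conv_lhs => rw [← Matrix.fromBlocks_toBlocks M]
    simp [h11]
  refine ⟨_, _, M.toBlocks₂₁, M.toBlocks₁₂, M.toBlocks₂₂ - M.toBlocks₂₁ * M.toBlocks₁₂,
    b.toMatrix_mul_toMatrix_flip (Pi.basisFun K _), h3.trans hMf, ?_⟩
  intro hC
  refine hu ?_
  -- coordinates of `u`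
  obtain ⟨y, hy⟩ : ∃ y : Fin 2 ⊕ Fin 6 → K, y = fun i => b.repr u i := ⟨_, rfl⟩
  obtain ⟨w, hw⟩ : ∃ w : Fin 2 → K, w = M.toBlocks₁₂ *ᵥ (y ∘ Sum.inr) := ⟨_, rfl⟩
  refine ⟨∑ j, w j • b (Sum.inl j), W.sum_mem fun j _ => W.smul_mem _ (hb1 j), ?_⟩
  have hyl : y ∘ Sum.inl = 0 := by
    ext i
    rw [hy]
    exact hb2 u huU i
  refine b.repr.injective ?_
  have key : ∀ v : Fin 2 ⊕ Fin 6 → K, (fun i => b.repr (f v) i) = M *ᵥ (fun i => b.repr v i) := by
    intro v
    rw [hM]
    exact (LinearMap.toMatrix_mulVec_repr b b f v).symm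
  have hw' : (fun i => b.repr (∑ j, w j • b (Sum.inl j)) i) = Sum.elim w 0 := by
    ext i
    rw [map_sum, Finsupp.finsetSum_apply]
    simp only [map_smul, b.repr_self, Finsupp.smul_apply, Finsupp.single_apply, smul_eq_mul]
    rcases i with i | i
    · simp
    · simp
  have h21 : M.toBlocks₂₂ = κ • (1 : Matrix (Fin 6) (Fin 6) K) + M.toBlocks₂₁ * M.toBlocks₁₂ := by
    rw [← hC]
    abel
  refine Finsupp.ext fun i => ?_
  have e1 : b.repr (f (∑ j, w j • b (Sum.inl j))) i = (M *ᵥ Sum.elim w 0) i := by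
    rw [← hw']
    exact congrFun (key _) i
  have e2 : b.repr (f u - κ • u) i = (M *ᵥ y) i - κ * y i := by
    rw [map_sub, map_smul, Finsupp.sub_apply, Finsupp.smul_apply, smul_eq_mul]
    have := congrFun (key u) i
    rw [← hy] at this
    rw [this, hy]
  rw [e1, e2]
  have hys : y = Sum.elim (0 : Fin 2 → K) (y ∘ Sum.inr) := by
    rw [← hyl]
    exact (Sum.elim_comp_inl_inr y).symm
  rw [← Matrix.fromBlocks_toBlocks M, Matrix.fromBlocks_mulVec, Matrix.fromBlocks_mulVec, h11, h21,
    hyl]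
  rcases i with i | i
  · have h7 : y (Sum.inl i) = 0 := congrFun hyl i
    simp [h7, hw]
  · simp [hw, Matrix.add_mulVec, Matrix.smul_mulVec, Matrix.mulVec_mulVec]

/-- **(L1)** -/
theorem two_form [Finite K] (N : Matrix (Fin 2 ⊕ Fin 6) (Fin 2 ⊕ Fin 6) K) (hdet : N.det ≠ 0)
    (hr : ∀ μ : K, 2 ≤ (N - Matrix.scalar _ μ).rank) (κ : K) :
    ∃ (S : Matrix.SpecialLinearGroup (Fin 2 ⊕ Fin 6) K) (X : Matrix (Fin 6) (Fin 2) K)
      (Y : Matrix (Fin 2) (Fin 6) K) (C : Matrix (Fin 6) (Fin 6) K),
      S.1 * N * (S⁻¹).1 = fromBlocks 1 0 X 1 * fromBlocks 1 0 0 C * fromBlocks 1 Y 0 1 ∧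
        C ≠ κ • 1 := by
  classical
  obtain ⟨S, T, X, Y, C, hST, h, hC⟩ := exists_block N hdet hr κ
  have hS : S.det * T.det = 1 := by rw [← Matrix.det_mul, hST, Matrix.det_one]
  have hS0 : S.det ≠ 0 := left_ne_zero_of_mul_eq_one hS
  -- scaling
  obtain ⟨d, hd⟩ : ∃ d : Matrix (Fin 6) (Fin 6) K, d = Matrix.diagonal (Function.update 1 0 S.det⁻¹) :=
    ⟨_, rfl⟩
  obtain ⟨d', hd'⟩ : ∃ d' : Matrix (Fin 6) (Fin 6) K, d' = Matrix.diagonal (Function.update 1 0 S.det) :=
    ⟨_, rfl⟩
  have hdd : d * d' = 1 := by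
    rw [hd, hd', Matrix.diagonal_mul_diagonal, ← Matrix.diagonal_one]
    congr 1
    ext i
    by_cases hi : i = 0
    · subst hi
      simp [hS0]
    · simp [Function.update_of_ne hi]
  have hdd' : d' * d = 1 := mul_eq_one_comm.1 hdd
  have hdet2 : (fromBlocks (1 : Matrix (Fin 2) (Fin 2) K) 0 0 d).det = S.det⁻¹ := by
    rw [Matrix.det_fromBlocks_zero₂₁, Matrix.det_one, one_mul, hd, Matrix.det_diagonal,
      Finset.prod_update_of_mem (Finset.mem_univ _)]
    simp
  let S' : Matrix.SpecialLinearGroup (Fin 2 ⊕ Fin 6) K := ⟨fromBlocks 1 0 0 d * S, by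
    rw [Matrix.det_mul, hdet2, inv_mul_cancel₀ hS0]⟩
  have hinv : (S'⁻¹).1 = T * fromBlocks 1 0 0 d' := by
    have e1 : S'.1 * (S'⁻¹).1 = 1 := congrArg Subtype.val (mul_inv_cancel S')
    have e2 : (T * fromBlocks 1 0 0 d') * S'.1 = 1 := by
      show (T * fromBlocks 1 0 0 d') * (fromBlocks 1 0 0 d * S) = 1
      rw [Matrix.mul_assoc, ← Matrix.mul_assoc (fromBlocks 1 0 0 d'), Matrix.fromBlocks_multiply]
      simp only [Matrix.mul_one, Matrix.mul_zero, Matrix.zero_mul, add_zero, zero_add, hdd',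
        Matrix.fromBlocks_one, Matrix.one_mul]
      exact mul_eq_one_comm.1 hST
    calc (S'⁻¹).1 = (T * fromBlocks 1 0 0 d' * S'.1) * (S'⁻¹).1 := by rw [e2, one_mul]
      _ = T * fromBlocks 1 0 0 d' * (S'.1 * (S'⁻¹).1) := Matrix.mul_assoc _ _ _
      _ = T * fromBlocks 1 0 0 d' := by rw [e1, Matrix.mul_one]
  refine ⟨S', d * X, Y * d', d * C * d', ?_, ?_⟩
  · rw [hinv]
    show fromBlocks 1 0 0 d * S * N * (T * fromBlocks 1 0 0 d') = _
    have e3 : fromBlocks 1 0 0 d * S * N * (T * fromBlocks 1 0 0 d') =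
        fromBlocks 1 0 0 d * (S * N * T) * fromBlocks 1 0 0 d' := by
      simp only [Matrix.mul_assoc]
    rw [e3, h]
    simp only [Matrix.fromBlocks_multiply, Matrix.mul_one, Matrix.one_mul, Matrix.mul_zero,
      Matrix.zero_mul, add_zero, zero_add]
    congr 1
    rw [Matrix.mul_add, Matrix.add_mul]
    congr 1
    rw [Matrix.mul_assoc, Matrix.mul_assoc, Matrix.mul_assoc]
  · intro h2
    refine hC ?_
    have h3 : d' * (d * C * d') * d = C := by
      calc d' * (d * C * d') * d = (d' * d) * C * (d' * d) := by simp only [Matrix.mul_assoc]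
        _ = C := by rw [hdd', Matrix.one_mul, Matrix.mul_one]
    rw [← h3, h2, Matrix.mul_smul, Matrix.mul_one, Matrix.smul_mul, hdd']

end Cfsg.Agent.H10.TW
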